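/-
Orbits of a group containing the alternating group on small configurations of points.

* `exists_map_tuple`: tuples with the same equality pattern are conjugate
* `TwoSet`, `Pair`: the actions on 2-subsets and on ordered pairs of distinct points
* `inner_one_*`, `inner_*`: inner products of their permutation characters
-/
import Cfsg.Agent.Lib.Char.Perm
import Mathlib.GroupTheory.SpecificGroups.Alternating

set_option autoImplicit false

namespace Cfsg.Agent.AltPerm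

open Cfsg Equiv
open scoped ComplexConjugate

variable {n : ℕ}

/-- The 2-subsets of `Fin n`. -/
abbrev TwoSet (n : ℕ) := {s : Finset (Fin n) // s.card = 2}

/-- The ordered pairs of distinct points of `Fin n`. -/
abbrev Pair (n : ℕ) := {x : Fin n × Fin n // x.1 ≠ x.2}

instance : MulAction (Perm (Fin n)) (TwoSet n) where
  smul σ s := ⟨s.1.map σ.toEmbedding, (Finset.card_map _).trans s.2⟩
  one_smul s := by
    apply Subtype.ext
    show s.1.map (1 : Perm (Fin n)).toEmbedding = s.1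
    rw [show (1 : Perm (Fin n)).toEmbedding = Function.Embedding.refl _ from rfl, Finset.map_refl]
  mul_smul σ τ s := by
    apply Subtype.ext
    show s.1.map (σ * τ).toEmbedding = (s.1.map τ.toEmbedding).map σ.toEmbedding
    rw [Finset.map_map]
    rfl

instance : MulAction (Perm (Fin n)) (Pair n) where
  smul σ x := ⟨(σ x.1.1, σ x.1.2), fun h => x.2 (σ.injective h)⟩
  one_smul _ := rfl
  mul_smul _ _ _ := rfl

theorem twoSet_smul (σ : Perm (Fin n)) (s : TwoSet n) :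
    ((σ • s : TwoSet n) : Finset (Fin n)) = s.1.map σ.toEmbedding := rfl

theorem pair_smul (σ : Perm (Fin n)) (x : Pair n) :
    ((σ • x : Pair n) : Fin n × Fin n) = (σ x.1.1, σ x.1.2) := rfl

variable (H : Subgroup (Perm (Fin n))) [Fintype H]

theorem sub_twoSet_smul (σ : H) (s : TwoSet n) :
    ((σ • s : TwoSet n) : Finset (Fin n)) = s.1.map (σ : Perm (Fin n)).toEmbedding := rfl

theorem sub_pair_smul (σ : H) (x : Pair n) :
    ((σ • x : Pair n) : Fin n × Fin n) = ((σ : Perm (Fin n)) x.1.1, (σ : Perm (Fin n)) x.1.2) := rfl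

theorem mem_smul_iff (σ : H) (s : TwoSet n) (a : Fin n) :
    (σ : Perm (Fin n)) a ∈ ((σ • s : TwoSet n) : Finset (Fin n)) ↔ a ∈ s.1 := by
  rw [sub_twoSet_smul]
  exact Finset.mem_map' _

variable (hH : alternatingGroup (Fin n) ≤ H)
include hH

/-- Tuples with the same equality pattern, missing at least two points, are conjugate. -/
theorem exists_map_tuple {k : ℕ} (hk : k + 2 ≤ n) (a b : Fin k → Fin n)
    (h : ∀ i j, a i = a j ↔ b i = b j) : ∃ σ : H, ∀ i, (σ : Perm (Fin n)) (a i) = b i := by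
  classical
  let f : {x // x ∈ Set.range a} → {x // x ∈ Set.range b} :=
    fun x => ⟨b (Classical.choose x.2), ⟨_, rfl⟩⟩
  have hf : ∀ i, (f ⟨a i, i, rfl⟩ : Fin n) = b i := fun i =>
    (h _ _).mp (Classical.choose_spec (⟨i, rfl⟩ : a i ∈ Set.range a))
  have hbij : Function.Bijective f := by
    constructor
    · rintro ⟨_, i, rfl⟩ ⟨_, j, rfl⟩ hij
      have h1 := congrArg Subtype.val hij
      rw [hf, hf, ← h] at h1
      exact Subtype.ext h1
    · rintro ⟨_, i, rfl⟩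
      exact ⟨⟨a i, i, rfl⟩, Subtype.ext (hf i)⟩
  let σ : Perm (Fin n) := (Equiv.ofBijective f hbij).extendSubtype
  have hσ : ∀ i, σ (a i) = b i := fun i => by
    rw [Equiv.extendSubtype_apply_of_mem (Equiv.ofBijective f hbij) (a i) ⟨i, rfl⟩]
    exact hf i
  rcases Int.units_eq_one_or (Perm.sign σ) with hs | hs
  · exact ⟨⟨σ, hH (Perm.mem_alternatingGroup.mpr hs)⟩, hσ⟩
  · have hc : 1 < (Finset.univ.image b)ᶜ.card := by
      have := Finset.card_image_le (f := b) (s := Finset.univ)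
      rw [Finset.card_univ, Fintype.card_fin] at this
      rw [Finset.card_compl, Fintype.card_fin]
      omega
    obtain ⟨u, hu, v, hv, huv⟩ := Finset.one_lt_card.mp hc
    simp only [Finset.mem_compl, Finset.mem_image, Finset.mem_univ, true_and, not_exists] at hu hv
    refine ⟨⟨Equiv.swap u v * σ, hH (Perm.mem_alternatingGroup.mpr ?_)⟩, fun i => ?_⟩
    · rw [map_mul, Perm.sign_swap huv, hs]
      rfl
    · show Equiv.swap u v (σ (a i)) = b i
      rw [hσ, Equiv.swap_apply_of_ne_of_ne (hu i) (hv i)]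

omit hH in
/-- The orbits of an action separated by an invariant. -/
theorem card_orbits {G X K : Type*} [Group G] [MulAction G X] (κ : X → K)
    (hinv : ∀ (g : G) (x : X), κ (g • x) = κ x) (hsep : ∀ x y, κ x = κ y → ∃ g : G, g • x = y)
    (T : Finset K) (hmem : ∀ x, κ x ∈ T) (hsurj : ∀ v ∈ T, ∃ x, κ x = v) :
    Nat.card (MulAction.orbitRel.Quotient G X) = T.card := by
  let F : MulAction.orbitRel.Quotient G X → T :=
    Quotient.lift (fun x => ⟨κ x, hmem x⟩) (fun x y hxy => by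
      obtain ⟨g, hg⟩ := MulAction.orbitRel_apply.mp hxy
      exact Subtype.ext (hg ▸ hinv g y))
  have hF : Function.Bijective F := by
    constructor
    · intro x y
      induction x using Quotient.inductionOn with | _ x => ?_
      induction y using Quotient.inductionOn with | _ y => ?_
      intro h
      obtain ⟨g, hg⟩ := hsep y x (congrArg Subtype.val h).symm
      exact Quotient.sound (MulAction.orbitRel_apply.mpr ⟨g, hg⟩)
    · rintro ⟨v, hv⟩
      obtain ⟨x, rfl⟩ := hsurj v hv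
      exact ⟨Quotient.mk _ x, rfl⟩
  rw [Nat.card_congr (Equiv.ofBijective F hF), Nat.card_eq_finsetCard]

omit hH in
/-- The permutation character. -/
noncomputable def permChar (X : Type*) [MulAction H X] : H → ℂ :=
  fun g => (Nat.card (MulAction.fixedBy X g) : ℂ)

omit hH in
theorem inner_permChar_one (X : Type*) [MulAction H X] [Finite X] :
    classInner (permChar H X) (1 : H → ℂ) = (Nat.card (MulAction.orbitRel.Quotient H X) : ℂ) :=
  Char.classInner_fixedPoints_one X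

omit hH in
theorem inner_permChar (X Y : Type*) [MulAction H X] [MulAction H Y] [Finite X] [Finite Y] :
    classInner (permChar H X) (permChar H Y) =
      (Nat.card (MulAction.orbitRel.Quotient H (X × Y)) : ℂ) := by
  rw [← inner_permChar_one]
  simp only [classInner, permChar, Pi.one_apply, map_one, mul_one, Complex.conj_natCast]
  congr 1
  refine Finset.sum_congr rfl fun g _ => ?_
  rw [← Nat.cast_mul, ← Nat.card_prod]
  congr 1
  exact Nat.card_congr
    { toFun := fun q => ⟨(q.1.1, q.2.1), Prod.ext q.1.2 q.2.2⟩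
      invFun := fun q => (⟨q.1.1, congrArg Prod.fst q.2⟩, ⟨q.1.2, congrArg Prod.snd q.2⟩)
      left_inv := fun _ => rfl
      right_inv := fun _ => rfl }

omit hH in
theorem inner_permChar_comm (X Y : Type*) [MulAction H X] [MulAction H Y] :
    classInner (permChar H X) (permChar H Y) = classInner (permChar H Y) (permChar H X) := by
  simp only [classInner, permChar, Complex.conj_natCast, mul_comm]

omit hH in
theorem inner_one_permChar (X : Type*) [MulAction H X] :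
    classInner (1 : H → ℂ) (permChar H X) = classInner (permChar H X) (1 : H → ℂ) := by
  simp only [classInner, permChar, Pi.one_apply, map_one, Complex.conj_natCast, mul_comm]

omit hH in
theorem exists_eq_insert_of_mem {s : TwoSet n} {a : Fin n} (h : a ∈ s.1) :
    ∃ b, a ≠ b ∧ s.1 = {a, b} := by
  obtain ⟨x, y, hxy, hs⟩ := Finset.card_eq_two.mp s.2
  rw [hs] at h ⊢
  rcases Finset.mem_insert.mp h with rfl | h
  · exact ⟨y, hxy, rfl⟩
  · rw [Finset.mem_singleton.mp h]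
    exact ⟨x, hxy.symm, Finset.pair_comm x y⟩

omit hH in
/-- Choose the enumeration of a 2-subset so that two given points are detected. -/
theorem exists_ordered (s : TwoSet n) (c d : Fin n) : ∃ x y, x ≠ y ∧ s.1 = {x, y} ∧
    (c ∈ s.1 → x = c) ∧ (c ∉ s.1 → d ∈ s.1 → x = d) := by
  by_cases hc : c ∈ s.1
  · obtain ⟨y, hy, hs⟩ := exists_eq_insert_of_mem hc
    exact ⟨c, y, hy, hs, fun _ => rfl, fun h => absurd hc h⟩
  by_cases hd : d ∈ s.1
  · obtain ⟨y, hy, hs⟩ := exists_eq_insert_of_mem hd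
    exact ⟨d, y, hy, hs, fun h => absurd h hc, fun _ _ => rfl⟩
  obtain ⟨x, y, hxy, hs⟩ := Finset.card_eq_two.mp s.2
  exact ⟨x, y, hxy, hs, fun h => absurd h hc, fun _ h => absurd h hd⟩

theorem inner_one_point (hn : 7 ≤ n) :
    classInner (permChar H (Fin n)) (1 : H → ℂ) = 1 := by
  rw [inner_permChar_one, card_orbits (fun _ => ()) (fun _ _ => rfl) (fun x y _ => ?_)
    Finset.univ (fun _ => Finset.mem_univ _) (fun _ _ => ⟨(⟨0, Nat.lt_of_lt_of_le (by norm_num) hn⟩ : Fin n), rfl⟩)]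
  · simp
  · obtain ⟨σ, hσ⟩ := exists_map_tuple H hH (k := 1) (by omega) ![x] ![y]
      (fun i j => by fin_cases i; fin_cases j; simp)
    exact ⟨σ, hσ 0⟩

theorem inner_one_twoSet (hn : 7 ≤ n) :
    classInner (permChar H (TwoSet n)) (1 : H → ℂ) = 1 := by
  rw [inner_permChar_one, card_orbits (fun _ => ()) (fun _ _ => rfl) (fun s t _ => ?_)
    Finset.univ (fun _ => Finset.mem_univ _) (fun _ _ =>
      ⟨⟨{(⟨0, Nat.lt_of_lt_of_le (by norm_num) hn⟩ : Fin n), (⟨1, Nat.lt_of_lt_of_le (by norm_num) hn⟩ : Fin n)}, Finset.card_pair (by simp)⟩, rfl⟩)]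
  · simp
  · obtain ⟨x, y, hxy, hs⟩ := Finset.card_eq_two.mp s.2
    obtain ⟨u, v, huv, ht⟩ := Finset.card_eq_two.mp t.2
    obtain ⟨σ, hσ⟩ := exists_map_tuple H hH (k := 2) (by omega) ![x, y] ![u, v]
      (fun i j => by fin_cases i <;> fin_cases j <;> simp [hxy, huv, hxy.symm, huv.symm])
    exact ⟨σ, Subtype.ext (by rw [sub_twoSet_smul, hs, ht]; rw [Finset.map_insert, Finset.map_singleton]; exact congrArg₂ (fun a b => ({a, b} : Finset (Fin n))) (hσ 0) (hσ 1))⟩

theorem inner_one_pair (hn : 7 ≤ n) :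
    classInner (permChar H (Pair n)) (1 : H → ℂ) = 1 := by
  rw [inner_permChar_one, card_orbits (fun _ => ()) (fun _ _ => rfl) (fun s t _ => ?_)
    Finset.univ (fun _ => Finset.mem_univ _) (fun _ _ =>
      ⟨⟨((⟨0, Nat.lt_of_lt_of_le (by norm_num) hn⟩ : Fin n), (⟨1, Nat.lt_of_lt_of_le (by norm_num) hn⟩ : Fin n)), by simp⟩, rfl⟩)]
  · simp
  · obtain ⟨σ, hσ⟩ := exists_map_tuple H hH (k := 2) (by omega) ![s.1.1, s.1.2] ![t.1.1, t.1.2]
      (fun i j => by fin_cases i <;> fin_cases j <;> simp [s.2, t.2, Ne.symm s.2, Ne.symm t.2])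
    exact ⟨σ, Subtype.ext (Prod.ext (hσ 0) (hσ 1))⟩

theorem inner_point_point (hn : 7 ≤ n) :
    classInner (permChar H (Fin n)) (permChar H (Fin n)) = 2 := by
  rw [inner_permChar, card_orbits (fun q : Fin n × Fin n => decide (q.1 = q.2))
    (fun g q => decide_eq_decide.mpr (show g • q.1 = g • q.2 ↔ q.1 = q.2 from smul_left_cancel_iff g))
    (fun q r h => ?_) Finset.univ (fun _ => Finset.mem_univ _) (fun v _ => ?_)]
  · simp
  · rw [decide_eq_decide] at h
    obtain ⟨σ, hσ⟩ := exists_map_tuple H hH (k := 2) (by omega) ![q.1, q.2] ![r.1, r.2]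
      (fun i j => by fin_cases i <;> fin_cases j <;> simp [h, eq_comm])
    exact ⟨σ, Prod.ext (hσ 0) (hσ 1)⟩
  · cases v
    · exact ⟨((⟨0, Nat.lt_of_lt_of_le (by norm_num) hn⟩ : Fin n), (⟨1, Nat.lt_of_lt_of_le (by norm_num) hn⟩ : Fin n)), by simp⟩
    · exact ⟨((⟨0, Nat.lt_of_lt_of_le (by norm_num) hn⟩ : Fin n), (⟨0, Nat.lt_of_lt_of_le (by norm_num) hn⟩ : Fin n)), by simp⟩

theorem inner_point_twoSet (hn : 7 ≤ n) :
    classInner (permChar H (Fin n)) (permChar H (TwoSet n)) = 2 := by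
  rw [inner_permChar, card_orbits (fun q : Fin n × TwoSet n => decide (q.1 ∈ q.2.1))
    (fun g q => decide_eq_decide.mpr (mem_smul_iff H g q.2 q.1))
    (fun q r h => ?_) Finset.univ (fun _ => Finset.mem_univ _) (fun v _ => ?_)]
  · simp
  · rw [decide_eq_decide] at h
    obtain ⟨x, y, hxy, hs, hc, -⟩ := exists_ordered q.2 q.1 q.1
    obtain ⟨u, v, huv, ht, hc', -⟩ := exists_ordered r.2 r.1 r.1
    have h1 : q.1 = x ↔ r.1 = u :=
      ⟨fun e => (hc' (h.mp (by rw [hs, e]; simp))).symm,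
        fun e => (hc (h.mpr (by rw [ht, e]; simp))).symm⟩
    have h2 : q.1 ≠ y := fun e => hxy ((hc (by rw [hs, e]; simp)).trans e)
    have h3 : r.1 ≠ v := fun e => huv ((hc' (by rw [ht, e]; simp)).trans e)
    obtain ⟨σ, hσ⟩ := exists_map_tuple H hH (k := 3) (by omega) ![q.1, x, y] ![r.1, u, v]
      (fun i j => by
        have h1' : x = q.1 ↔ u = r.1 := by rw [eq_comm, h1, eq_comm]
        fin_cases i <;> fin_cases j <;> simp [h1, h1', h2, h3, h2.symm, h3.symm, hxy, huv, hxy.symm, huv.symm, eq_comm])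
    exact ⟨σ, Prod.ext (hσ 0) (Subtype.ext (by
      show ((σ • q.2 : TwoSet n) : Finset (Fin n)) = _
      rw [sub_twoSet_smul, hs, ht]; rw [Finset.map_insert, Finset.map_singleton]; exact congrArg₂ (fun a b => ({a, b} : Finset (Fin n))) (hσ 1) (hσ 2)))⟩
  · cases v
    · exact ⟨((⟨2, Nat.lt_of_lt_of_le (by norm_num) hn⟩ : Fin n), ⟨{(⟨0, Nat.lt_of_lt_of_le (by norm_num) hn⟩ : Fin n), (⟨1, Nat.lt_of_lt_of_le (by norm_num) hn⟩ : Fin n)}, Finset.card_pair (by simp)⟩), by simp⟩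
    · exact ⟨((⟨0, Nat.lt_of_lt_of_le (by norm_num) hn⟩ : Fin n), ⟨{(⟨0, Nat.lt_of_lt_of_le (by norm_num) hn⟩ : Fin n), (⟨1, Nat.lt_of_lt_of_le (by norm_num) hn⟩ : Fin n)}, Finset.card_pair (by simp)⟩), by simp⟩

theorem inner_point_pair (hn : 7 ≤ n) :
    classInner (permChar H (Fin n)) (permChar H (Pair n)) = 3 := by
  rw [inner_permChar, card_orbits
    (fun q : Fin n × Pair n => (decide (q.1 = q.2.1.1), decide (q.1 = q.2.1.2)))
    (fun g q => Prod.ext (decide_eq_decide.mpr (smul_left_cancel_iff (α := H) g))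
      (decide_eq_decide.mpr (smul_left_cancel_iff (α := H) g)))
    (fun q r h => ?_) {(true, false), (false, true), (false, false)} (fun q => ?_) (fun v hv => ?_)]
  · simp
  · simp only [Prod.ext_iff, decide_eq_decide] at h
    obtain ⟨σ, hσ⟩ := exists_map_tuple H hH (k := 3) (by omega) ![q.1, q.2.1.1, q.2.1.2]
      ![r.1, r.2.1.1, r.2.1.2] (fun i j => by
        fin_cases i <;> fin_cases j <;>
          simp [h, eq_comm, q.2.2, r.2.2, Ne.symm q.2.2, Ne.symm r.2.2])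
    exact ⟨σ, Prod.ext (hσ 0) (Subtype.ext (Prod.ext (hσ 1) (hσ 2)))⟩
  · have := q.2.2
    by_cases h1 : q.1 = q.2.1.1 <;> by_cases h2 : q.1 = q.2.1.2 <;> simp_all
  · simp only [Finset.mem_insert, Finset.mem_singleton] at hv
    rcases hv with rfl | rfl | rfl
    · exact ⟨((⟨0, Nat.lt_of_lt_of_le (by norm_num) hn⟩ : Fin n), ⟨((⟨0, Nat.lt_of_lt_of_le (by norm_num) hn⟩ : Fin n), (⟨1, Nat.lt_of_lt_of_le (by norm_num) hn⟩ : Fin n)), by simp⟩), by simp⟩
    · exact ⟨((⟨1, Nat.lt_of_lt_of_le (by norm_num) hn⟩ : Fin n), ⟨((⟨0, Nat.lt_of_lt_of_le (by norm_num) hn⟩ : Fin n), (⟨1, Nat.lt_of_lt_of_le (by norm_num) hn⟩ : Fin n)), by simp⟩), by simp⟩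
    · exact ⟨((⟨2, Nat.lt_of_lt_of_le (by norm_num) hn⟩ : Fin n), ⟨((⟨0, Nat.lt_of_lt_of_le (by norm_num) hn⟩ : Fin n), (⟨1, Nat.lt_of_lt_of_le (by norm_num) hn⟩ : Fin n)), by simp⟩), by simp⟩

theorem inner_twoSet_twoSet (hn : 7 ≤ n) :
    classInner (permChar H (TwoSet n)) (permChar H (TwoSet n)) = 3 := by
  rw [inner_permChar, card_orbits (fun q : TwoSet n × TwoSet n => (q.1.1 ∩ q.2.1).card)
    (fun g q => ?_) (fun q r h => ?_) {0, 1, 2} (fun q => ?_) (fun v hv => ?_)]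
  · simp
  · show (((g • q.1 : TwoSet n) : Finset (Fin n)) ∩ ((g • q.2 : TwoSet n) : Finset (Fin n))).card = _
    rw [sub_twoSet_smul, sub_twoSet_smul, ← Finset.map_inter, Finset.card_map]
  · -- normal form of a pair of 2-subsets
    have key : ∀ q : TwoSet n × TwoSet n, ∃ a : Fin 4 → Fin n, q.1.1 = {a 0, a 1} ∧ q.2.1 = {a 2, a 3} ∧
        a 0 ≠ a 1 ∧ a 2 ≠ a 3 ∧ a 0 ≠ a 3 ∧ a 1 ≠ a 2 ∧
        (a 0 = a 2 ↔ (q.1.1 ∩ q.2.1).card ≠ 0) ∧ (a 1 = a 3 ↔ (q.1.1 ∩ q.2.1).card = 2) := by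
      rintro ⟨⟨s, hs⟩, ⟨t, ht⟩⟩
      by_cases h0 : (s ∩ t).card = 0
      · obtain ⟨x, y, hxy, rfl⟩ := Finset.card_eq_two.mp hs
        obtain ⟨z, w, hzw, rfl⟩ := Finset.card_eq_two.mp ht
        rw [Finset.card_eq_zero, ← Finset.disjoint_iff_inter_eq_empty] at h0
        simp only [Finset.disjoint_insert_left, Finset.disjoint_singleton_left, Finset.mem_insert,
          Finset.mem_singleton, not_or] at h0
        refine ⟨![x, y, z, w], rfl, rfl, hxy, hzw, h0.1.2, h0.2.1, ?_, ?_⟩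
        · simp [h0.1.1, h0.1.2, h0.2.1, h0.2.2]
        · simp [h0.2.2, h0.1.1, h0.1.2, h0.2.1]
      · obtain ⟨a, ha⟩ := Finset.card_ne_zero.mp h0
        rw [Finset.mem_inter] at ha
        obtain ⟨y, hay, rfl⟩ : ∃ y, a ≠ y ∧ s = {a, y} := exists_eq_insert_of_mem (s := ⟨s, hs⟩) ha.1
        obtain ⟨w, haw, rfl⟩ : ∃ w, a ≠ w ∧ t = {a, w} := exists_eq_insert_of_mem (s := ⟨t, ht⟩) ha.2
        refine ⟨![a, y, a, w], rfl, rfl, hay, haw, haw, hay.symm, by simp [h0], ?_⟩
        by_cases hyw : y = w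
        · subst hyw; simp [hay]
        · have : ({a, y} : Finset (Fin n)) ∩ {a, w} = {a} := by
            ext z
            simp only [Finset.mem_inter, Finset.mem_insert, Finset.mem_singleton]
            refine ⟨fun hz => ?_, fun hz => ⟨Or.inl hz, Or.inl hz⟩⟩
            rcases hz with ⟨hz | hz, hz' | hz'⟩
            all_goals first | exact hz | exact hz' | exact absurd (hz.symm.trans hz') hyw
          simp [this, hyw]
    obtain ⟨a, a1, a2, a3, a4, a5, a6, a7, a8⟩ := key q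
    obtain ⟨b, b1, b2, b3, b4, b5, b6, b7, b8⟩ := key r
    have e7 : a 0 = a 2 ↔ b 0 = b 2 := by rw [a7, b7]; exact iff_of_eq (congrArg (· ≠ 0) h)
    have e8 : a 1 = a 3 ↔ b 1 = b 3 := by rw [a8, b8]; exact iff_of_eq (congrArg (· = 2) h)
    obtain ⟨σ, hσ⟩ := exists_map_tuple H hH (k := 4) (by omega) a b (fun i j => by
      fin_cases i <;> fin_cases j <;>
        simp [e7, e8, a3, a4, a5, a6, b3, b4, b5, b6, eq_comm, a3.symm, a4.symm, a5.symm, a6.symm,
          b3.symm, b4.symm, b5.symm, b6.symm])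
    refine ⟨σ, Prod.ext (Subtype.ext ?_) (Subtype.ext ?_)⟩
    · show ((σ • q.1 : TwoSet n) : Finset (Fin n)) = _
      rw [sub_twoSet_smul, a1, b1]; simp [hσ]
    · show ((σ • q.2 : TwoSet n) : Finset (Fin n)) = _
      rw [sub_twoSet_smul, a2, b2]; simp [hσ]
  · have := (Finset.card_le_card (Finset.inter_subset_left (s₁ := q.1.1) (s₂ := q.2.1))).trans_eq q.1.2
    simp only [Finset.mem_insert, Finset.mem_singleton]
    omega
  · simp only [Finset.mem_insert, Finset.mem_singleton] at hv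
    rcases hv with rfl | rfl | rfl
    · exact ⟨(⟨{(⟨0, Nat.lt_of_lt_of_le (by norm_num) hn⟩ : Fin n), (⟨1, Nat.lt_of_lt_of_le (by norm_num) hn⟩ : Fin n)}, Finset.card_pair (by simp)⟩,
        ⟨{(⟨2, Nat.lt_of_lt_of_le (by norm_num) hn⟩ : Fin n), (⟨3, Nat.lt_of_lt_of_le (by norm_num) hn⟩ : Fin n)}, Finset.card_pair (by simp)⟩), by simp⟩
    · exact ⟨(⟨{(⟨0, Nat.lt_of_lt_of_le (by norm_num) hn⟩ : Fin n), (⟨1, Nat.lt_of_lt_of_le (by norm_num) hn⟩ : Fin n)}, Finset.card_pair (by simp)⟩,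
        ⟨{(⟨0, Nat.lt_of_lt_of_le (by norm_num) hn⟩ : Fin n), (⟨2, Nat.lt_of_lt_of_le (by norm_num) hn⟩ : Fin n)}, Finset.card_pair (by simp)⟩), by simp⟩
    · exact ⟨(⟨{(⟨0, Nat.lt_of_lt_of_le (by norm_num) hn⟩ : Fin n), (⟨1, Nat.lt_of_lt_of_le (by norm_num) hn⟩ : Fin n)}, Finset.card_pair (by simp)⟩,
        ⟨{(⟨0, Nat.lt_of_lt_of_le (by norm_num) hn⟩ : Fin n), (⟨1, Nat.lt_of_lt_of_le (by norm_num) hn⟩ : Fin n)}, Finset.card_pair (by simp)⟩), by simp⟩

theorem inner_twoSet_pair (hn : 7 ≤ n) :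
    classInner (permChar H (TwoSet n)) (permChar H (Pair n)) = 4 := by
  rw [inner_permChar, card_orbits
    (fun q : TwoSet n × Pair n => (decide (q.2.1.1 ∈ q.1.1), decide (q.2.1.2 ∈ q.1.1)))
    (fun g q => Prod.ext (decide_eq_decide.mpr (mem_smul_iff H g q.1 _))
      (decide_eq_decide.mpr (mem_smul_iff H g q.1 _)))
    (fun q r h => ?_) Finset.univ (fun _ => Finset.mem_univ _) (fun v _ => ?_)]
  · simp
  · simp only [Prod.ext_iff, decide_eq_decide] at h
    obtain ⟨x, y, hxy, hs, hc, hd⟩ := exists_ordered q.1 q.2.1.1 q.2.1.2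
    obtain ⟨u, v, huv, ht, hc', hd'⟩ := exists_ordered r.1 r.2.1.1 r.2.1.2
    have key : ∀ (s : TwoSet n) (c d x y : Fin n), c ≠ d → x ≠ y → s.1 = {x, y} →
        (c ∈ s.1 → x = c) → (c ∉ s.1 → d ∈ s.1 → x = d) →
        (x = c ↔ c ∈ s.1) ∧ (x = d ↔ (c ∉ s.1 ∧ d ∈ s.1)) ∧ y ≠ c ∧
          (y = d ↔ (c ∈ s.1 ∧ d ∈ s.1)) := by
      intro s c d x y hcd hxy hs hc hd
      have hm : ∀ z, z ∈ s.1 ↔ z = x ∨ z = y := fun z => by rw [hs]; simp
      refine ⟨⟨fun e => (hm c).mpr (Or.inl e.symm), hc⟩, ⟨fun e => ?_, fun e => hd e.1 e.2⟩,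
        fun e => ?_, ⟨fun e => ?_, fun e => ?_⟩⟩
      · exact ⟨fun hh => hcd ((hc hh).symm.trans e), (hm d).mpr (Or.inl e.symm)⟩
      · exact hxy ((hc ((hm c).mpr (Or.inr e.symm))).trans e.symm)
      · have h1 := (hm d).mpr (Or.inr e.symm)
        by_cases hh : c ∈ s.1
        · exact ⟨hh, h1⟩
        · exact absurd ((hd hh h1).trans e.symm) hxy
      · rcases (hm d).mp e.2 with e' | e'
        · exact absurd ((hc e.1).symm.trans e'.symm) hcd
        · exact e'.symm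
    obtain ⟨k1, k2, k3, k4⟩ := key q.1 _ _ x y q.2.2 hxy hs hc hd
    obtain ⟨l1, l2, l3, l4⟩ := key r.1 _ _ u v r.2.2 huv ht hc' hd'
    have e1 : x = q.2.1.1 ↔ u = r.2.1.1 := by rw [k1, l1]; exact h.1
    have e2 : x = q.2.1.2 ↔ u = r.2.1.2 := by rw [k2, l2, h.1, h.2]
    have e4 : y = q.2.1.2 ↔ v = r.2.1.2 := by rw [k4, l4, h.1, h.2]
    obtain ⟨σ, hσ⟩ := exists_map_tuple H hH (k := 4) (by omega) ![x, y, q.2.1.1, q.2.1.2]
      ![u, v, r.2.1.1, r.2.1.2] (fun i j => by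
        fin_cases i <;> fin_cases j <;>
          simp [e1, e2, e4, k3, l3, k3.symm, l3.symm, hxy, huv, hxy.symm, huv.symm, q.2.2, r.2.2,
            Ne.symm q.2.2, Ne.symm r.2.2, eq_comm])
    refine ⟨σ, Prod.ext (Subtype.ext ?_) (Subtype.ext (Prod.ext (hσ 2) (hσ 3)))⟩
    show ((σ • q.1 : TwoSet n) : Finset (Fin n)) = _
    rw [sub_twoSet_smul, hs, ht]; rw [Finset.map_insert, Finset.map_singleton]; exact congrArg₂ (fun a b => ({a, b} : Finset (Fin n))) (hσ 0) (hσ 1)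
  · obtain ⟨v1, v2⟩ := v
    cases v1 <;> cases v2
    · exact ⟨(⟨{(⟨0, Nat.lt_of_lt_of_le (by norm_num) hn⟩ : Fin n), (⟨1, Nat.lt_of_lt_of_le (by norm_num) hn⟩ : Fin n)}, Finset.card_pair (by simp)⟩,
        ⟨((⟨2, Nat.lt_of_lt_of_le (by norm_num) hn⟩ : Fin n), (⟨3, Nat.lt_of_lt_of_le (by norm_num) hn⟩ : Fin n)), by simp⟩), by simp⟩
    · exact ⟨(⟨{(⟨0, Nat.lt_of_lt_of_le (by norm_num) hn⟩ : Fin n), (⟨1, Nat.lt_of_lt_of_le (by norm_num) hn⟩ : Fin n)}, Finset.card_pair (by simp)⟩,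
        ⟨((⟨2, Nat.lt_of_lt_of_le (by norm_num) hn⟩ : Fin n), (⟨0, Nat.lt_of_lt_of_le (by norm_num) hn⟩ : Fin n)), by simp⟩), by simp⟩
    · exact ⟨(⟨{(⟨0, Nat.lt_of_lt_of_le (by norm_num) hn⟩ : Fin n), (⟨1, Nat.lt_of_lt_of_le (by norm_num) hn⟩ : Fin n)}, Finset.card_pair (by simp)⟩,
        ⟨((⟨0, Nat.lt_of_lt_of_le (by norm_num) hn⟩ : Fin n), (⟨2, Nat.lt_of_lt_of_le (by norm_num) hn⟩ : Fin n)), by simp⟩), by simp⟩
    · exact ⟨(⟨{(⟨0, Nat.lt_of_lt_of_le (by norm_num) hn⟩ : Fin n), (⟨1, Nat.lt_of_lt_of_le (by norm_num) hn⟩ : Fin n)}, Finset.card_pair (by simp)⟩,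
        ⟨((⟨0, Nat.lt_of_lt_of_le (by norm_num) hn⟩ : Fin n), (⟨1, Nat.lt_of_lt_of_le (by norm_num) hn⟩ : Fin n)), by simp⟩), by simp⟩

theorem inner_pair_pair (hn : 7 ≤ n) :
    classInner (permChar H (Pair n)) (permChar H (Pair n)) = 7 := by
  rw [inner_permChar, card_orbits
    (fun q : Pair n × Pair n => ((decide (q.1.1.1 = q.2.1.1), decide (q.1.1.1 = q.2.1.2)),
      (decide (q.1.1.2 = q.2.1.1), decide (q.1.1.2 = q.2.1.2))))
    (fun g q => Prod.ext (Prod.ext (decide_eq_decide.mpr (smul_left_cancel_iff (α := H) g))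
        (decide_eq_decide.mpr (smul_left_cancel_iff (α := H) g)))
      (Prod.ext (decide_eq_decide.mpr (smul_left_cancel_iff (α := H) g))
        (decide_eq_decide.mpr (smul_left_cancel_iff (α := H) g))))
    (fun q r h => ?_)
    {((false, false), (false, false)), ((true, false), (false, false)), ((false, true), (false, false)),
      ((false, false), (true, false)), ((false, false), (false, true)),
      ((true, false), (false, true)), ((false, true), (true, false))}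
    (fun q => ?_) (fun v hv => ?_)]
  · simp
  · simp only [Prod.ext_iff, decide_eq_decide] at h
    obtain ⟨σ, hσ⟩ := exists_map_tuple H hH (k := 4) (by omega)
      ![q.1.1.1, q.1.1.2, q.2.1.1, q.2.1.2] ![r.1.1.1, r.1.1.2, r.2.1.1, r.2.1.2] (fun i j => by
        obtain ⟨⟨a1, a2⟩, a3, a4⟩ := h
        have b1 : q.2.1.1 = q.1.1.1 ↔ r.2.1.1 = r.1.1.1 := by rw [eq_comm, a1, eq_comm]
        have b2 : q.2.1.2 = q.1.1.1 ↔ r.2.1.2 = r.1.1.1 := by rw [eq_comm, a2, eq_comm]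
        have b3 : q.2.1.1 = q.1.1.2 ↔ r.2.1.1 = r.1.1.2 := by rw [eq_comm, a3, eq_comm]
        have b4 : q.2.1.2 = q.1.1.2 ↔ r.2.1.2 = r.1.1.2 := by rw [eq_comm, a4, eq_comm]
        fin_cases i <;> fin_cases j <;>
          simp [a1, a2, a3, a4, b1, b2, b3, b4, q.1.2, q.2.2, r.1.2, r.2.2, Ne.symm q.1.2, Ne.symm q.2.2,
            Ne.symm r.1.2, Ne.symm r.2.2])
    exact ⟨σ, Prod.ext (Subtype.ext (Prod.ext (hσ 0) (hσ 1))) (Subtype.ext (Prod.ext (hσ 2) (hσ 3)))⟩
  · have := q.1.2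
    have := q.2.2
    by_cases h1 : q.1.1.1 = q.2.1.1 <;> by_cases h2 : q.1.1.1 = q.2.1.2 <;>
      by_cases h3 : q.1.1.2 = q.2.1.1 <;> by_cases h4 : q.1.1.2 = q.2.1.2 <;> simp_all
  · have w : ∀ a b c d : ℕ, a < 4 → b < 4 → c < 4 → d < 4 → a ≠ b → c ≠ d → ∃ q : Pair n × Pair n,
        ((decide (q.1.1.1 = q.2.1.1), decide (q.1.1.1 = q.2.1.2)),
          (decide (q.1.1.2 = q.2.1.1), decide (q.1.1.2 = q.2.1.2))) =
        ((decide (a = c), decide (a = d)), (decide (b = c), decide (b = d))) := by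
      intro a b c d ha hb hc hd hab hcd
      exact ⟨(⟨(⟨a, by omega⟩, ⟨b, by omega⟩), by simpa [Fin.ext_iff]⟩,
        ⟨(⟨c, by omega⟩, ⟨d, by omega⟩), by simpa [Fin.ext_iff]⟩), by simp [Fin.ext_iff]⟩
    simp only [Finset.mem_insert, Finset.mem_singleton] at hv
    rcases hv with rfl | rfl | rfl | rfl | rfl | rfl | rfl
    · simpa using w 0 1 2 3 (by omega) (by omega) (by omega) (by omega) (by omega) (by omega)
    · simpa using w 0 1 0 3 (by omega) (by omega) (by omega) (by omega) (by omega) (by omega)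
    · simpa using w 0 1 3 0 (by omega) (by omega) (by omega) (by omega) (by omega) (by omega)
    · simpa using w 0 1 1 3 (by omega) (by omega) (by omega) (by omega) (by omega) (by omega)
    · simpa using w 0 1 3 1 (by omega) (by omega) (by omega) (by omega) (by omega) (by omega)
    · simpa using w 0 1 0 1 (by omega) (by omega) (by omega) (by omega) (by omega) (by omega)
    · simpa using w 0 1 1 0 (by omega) (by omega) (by omega) (by omega) (by omega) (by omega)

end Cfsg.Agent.AltPerm
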