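/-
Three small irreducible characters of the symmetric and alternating groups.

* `exists_standard`, `exists_two`, `exists_hook`: the characters `(n-1,1)`, `(n-2,2)`, `(n-2,1,1)`
  with their values at permutations without 2-cycles
* `exists_perm`: an even permutation with prescribed cycle type
-/
import Cfsg.Agent.Lib.AltPerm.Orbits
import Cfsg.Agent.Lib.Char.Virtual
import Mathlib.GroupTheory.Perm.Cycle.PossibleTypes

set_option autoImplicit false

namespace Cfsg.Agent.AltPerm

open Cfsg Equiv
open scoped ComplexConjugate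

variable {n : ℕ}

/-- The number of fixed points on `X`, as a complex number. -/
noncomputable def fixChar (X : Type*) [MulAction (Perm (Fin n)) X] : Perm (Fin n) → ℂ :=
  fun σ => (Nat.card (MulAction.fixedBy X σ) : ℂ)

theorem fixChar_restrict (X : Type*) [MulAction (Perm (Fin n)) X] (H : Subgroup (Perm (Fin n))) :
    (fun x : H => fixChar X (x : Perm (Fin n))) = permChar H X := rfl

/-- A combination of fixed-point characters of norm one gives irreducible characters of both groups. -/
theorem exists_irr (v : Perm (Fin n) → ℂ) {d : ℕ} (hd : 0 < d) (hv1 : v 1 = d)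
    (h : ∀ (H : Subgroup (Perm (Fin n))) [Fintype H], alternatingGroup (Fin n) ≤ H →
      IsGeneralizedCharacter H (fun x : H => v x) ∧
        classInner (fun x : H => v x) (fun x : H => v x) = 1) :
    IsIrrCharacter (alternatingGroup (Fin n)) (fun x => v x) ∧ IsIrrCharacter (Perm (Fin n)) v := by
  classical
  have key : ∀ (H : Subgroup (Perm (Fin n))), alternatingGroup (Fin n) ≤ H →
      IsIrrCharacter H (fun x : H => v x) := by
    intro H hH
    haveI := Fintype.ofFinite H
    obtain ⟨hg, hn⟩ := h H hH
    obtain ⟨χ, hχ, hc | hc⟩ := Char.IsGeneralizedCharacter.exists_irr_of_norm_one hg hn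
    · rw [hc]; exact hχ
    · exfalso
      obtain ⟨k, -, hk⟩ := Char.IsIrrCharacter.exists_degree hχ
      have h1 := congrFun hc 1
      simp only [Pi.neg_apply, OneMemClass.coe_one, hv1, hk] at h1
      have h2 : ((d + k : ℕ) : ℂ) = 0 := by push_cast; rw [h1]; ring
      rw [Nat.cast_eq_zero] at h2
      omega
  refine ⟨key _ le_rfl, ?_⟩
  exact Char.IsIrrCharacter.comp_equiv (key ⊤ le_top) Subgroup.topEquiv.symm

theorem fixChar_point (σ : Perm (Fin n)) :
    fixChar (Fin n) σ = ((Finset.univ.filter fun a => σ a = a).card : ℂ) := by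
  rw [fixChar, Nat.card_eq_fintype_card, Fintype.card_subtype]
  rfl

theorem fixChar_pair (σ : Perm (Fin n)) :
    fixChar (Pair n) σ =
      (((Finset.univ.filter fun a => σ a = a).card * (Finset.univ.filter fun a => σ a = a).card -
        (Finset.univ.filter fun a => σ a = a).card : ℕ) : ℂ) := by
  rw [fixChar, ← Finset.offDiag_card, ← Nat.card_eq_finsetCard]
  congr 1
  refine Nat.card_congr
    { toFun := fun x => ⟨x.1.1, ?_⟩
      invFun := fun x => ⟨⟨x.1, (Finset.mem_offDiag.mp x.2).2.2⟩, ?_⟩
      left_inv := fun x => rfl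
      right_inv := fun x => rfl }
  · have h : (σ x.1.1.1, σ x.1.1.2) = x.1.1 := congrArg Subtype.val x.2
    simp only [Finset.mem_offDiag, Finset.mem_filter, Finset.mem_univ, true_and]
    exact ⟨congrArg Prod.fst h, congrArg Prod.snd h, x.1.2⟩
  · obtain ⟨h1, h2, -⟩ := Finset.mem_offDiag.mp x.2
    exact Subtype.ext (Prod.ext (Finset.mem_filter.mp h1).2 (Finset.mem_filter.mp h2).2)

/-- Without 2-cycles a fixed 2-subset consists of two fixed points. -/
theorem fixChar_twoSet (σ : Perm (Fin n)) (hσ : ∀ a, σ (σ a) = a → σ a = a) :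
    fixChar (TwoSet n) σ = (((Finset.univ.filter fun a => σ a = a).card.choose 2 : ℕ) : ℂ) := by
  rw [fixChar, ← Finset.card_powersetCard, ← Nat.card_eq_finsetCard]
  congr 1
  refine Nat.card_congr
    { toFun := fun s => ⟨s.1.1, Finset.mem_powersetCard.mpr ⟨fun a ha => ?_, s.1.2⟩⟩
      invFun := fun s => ⟨⟨s.1, (Finset.mem_powersetCard.mp s.2).2⟩, ?_⟩
      left_inv := fun x => rfl
      right_inv := fun x => rfl }
  · refine Finset.mem_filter.mpr ⟨Finset.mem_univ _, hσ a ?_⟩
    have h : s.1.1.map σ.toEmbedding = s.1.1 := congrArg Subtype.val s.2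
    obtain ⟨b, hab, hs⟩ := exists_eq_insert_of_mem (s := s.1) ha
    have h1 : ∀ z ∈ s.1.1, σ z ∈ s.1.1 := fun z hz => by
      have := (Finset.mem_map' σ.toEmbedding).mpr hz
      rwa [h] at this
    have h2 := h1 a ha
    simp only [hs, Finset.mem_insert, Finset.mem_singleton] at h2
    rcases h2 with h2 | h2
    · rw [h2, h2]
    · have h3 := h1 b (by simp [hs])
      simp only [hs, Finset.mem_insert, Finset.mem_singleton] at h3
      rcases h3 with h3 | h3
      · rw [h2, h3]
      · exact absurd (σ.injective (h2.trans h3.symm)) hab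
  · refine Subtype.ext ?_
    show Finset.map σ.toEmbedding s.1 = s.1
    refine Finset.eq_of_subset_of_card_le (fun a ha => ?_) (Finset.card_map _).ge
    obtain ⟨b, hb, rfl⟩ := Finset.mem_map.mp ha
    show σ b ∈ s.1
    rw [(Finset.mem_filter.mp ((Finset.mem_powersetCard.mp s.2).1 hb)).2]
    exact hb

theorem card_filter_one : (Finset.univ.filter fun a : Fin n => (1 : Perm (Fin n)) a = a).card = n := by
  simp

/-- The character `(n-1,1)`. -/
theorem exists_standard (hn : 7 ≤ n) :
    ∃ v : Perm (Fin n) → ℂ, IsIrrCharacter (alternatingGroup (Fin n)) (fun x => v x) ∧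
      IsIrrCharacter (Perm (Fin n)) v ∧
      ∀ σ, (Finset.univ.filter fun a => σ a = a).card = 1 → v σ = 0 := by
  refine ⟨fun σ => fixChar (Fin n) σ - 1, and_assoc.mp ⟨exists_irr (fun σ : Perm (Fin n) => fixChar (Fin n) σ - 1) (d := n - 1) (by omega) ?_
    (fun H _ hH => ?_), fun σ hσ => ?_⟩⟩
  · rw [fixChar_point, card_filter_one, Nat.cast_sub (by omega : 1 ≤ n), Nat.cast_one]
  · have e : (fun x : H => fixChar (Fin n) (x : Perm (Fin n)) - 1) = permChar H (Fin n) - 1 := rfl
    rw [e]
    refine ⟨Char.IsGeneralizedCharacter.sub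
      (Char.isGeneralizedCharacter_of_isCharacter (Char.isCharacter_fixedPoints _))
      (Char.isGeneralizedCharacter_of_isCharacter
        (Char.IsIrrCharacter.isCharacter Char.isIrrCharacter_one)), ?_⟩
    rw [Char.classInner_sub_left, Char.classInner_sub_right, Char.classInner_sub_right,
      inner_point_point H hH hn, inner_one_point H hH hn, inner_one_permChar,
      inner_one_point H hH hn, show classInner (1 : H → ℂ) 1 = 1 from
        Char.classInner_irr_self Char.isIrrCharacter_one]
    norm_num
  · dsimp only; rw [fixChar_point, hσ]; simp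

/-- The character `(n-2,2)`. -/
theorem exists_two (hn : 7 ≤ n) :
    ∃ v : Perm (Fin n) → ℂ, IsIrrCharacter (alternatingGroup (Fin n)) (fun x => v x) ∧
      IsIrrCharacter (Perm (Fin n)) v ∧
      ∀ σ, (∀ a, σ (σ a) = a → σ a = a) →
        (Finset.univ.filter fun a => σ a = a).card = 0 → v σ = 0 := by
  have hlt : n < n.choose 2 := by
    rw [Nat.choose_two_right]
    have : n * 6 ≤ n * (n - 1) := Nat.mul_le_mul_left _ (by omega)
    omega
  refine ⟨fun σ => fixChar (TwoSet n) σ - fixChar (Fin n) σ, and_assoc.mp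
    ⟨exists_irr (fun σ : Perm (Fin n) => fixChar (TwoSet n) σ - fixChar (Fin n) σ) (d := n.choose 2 - n) (by omega) ?_ (fun H _ hH => ?_), fun σ hσ h0 => ?_⟩⟩
  · rw [fixChar_twoSet 1 (fun a _ => rfl), fixChar_point, card_filter_one, Nat.cast_sub hlt.le]
  · have e : (fun x : H => fixChar (TwoSet n) (x : Perm (Fin n)) - fixChar (Fin n) (x : Perm (Fin n))) =
      permChar H (TwoSet n) - permChar H (Fin n) := rfl
    rw [e]
    refine ⟨Char.IsGeneralizedCharacter.sub
      (Char.isGeneralizedCharacter_of_isCharacter (Char.isCharacter_fixedPoints _))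
      (Char.isGeneralizedCharacter_of_isCharacter (Char.isCharacter_fixedPoints _)), ?_⟩
    rw [Char.classInner_sub_left, Char.classInner_sub_right, Char.classInner_sub_right,
      inner_permChar_comm H (TwoSet n) (Fin n), inner_point_point H hH hn,
      inner_point_twoSet H hH hn, inner_twoSet_twoSet H hH hn]
    norm_num
  · dsimp only; rw [fixChar_twoSet σ hσ, fixChar_point, h0]; simp

/-- The character `(n-2,1,1)`. -/
theorem exists_hook (hn : 7 ≤ n) :
    ∃ v : Perm (Fin n) → ℂ, IsIrrCharacter (alternatingGroup (Fin n)) (fun x => v x) ∧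
      IsIrrCharacter (Perm (Fin n)) v ∧
      ∀ σ, (∀ a, σ (σ a) = a → σ a = a) →
        (Finset.univ.filter fun a => σ a = a).card = 2 → v σ = 0 := by
  have h1 : n * 6 ≤ n * (n - 1) := Nat.mul_le_mul_left _ (by omega)
  have h2 : n * n - n = n * (n - 1) := by rw [Nat.mul_sub_one]
  have hle : n.choose 2 + n ≤ n * n - n := by
    rw [Nat.choose_two_right]; omega
  refine ⟨fun σ => fixChar (Pair n) σ - fixChar (TwoSet n) σ - fixChar (Fin n) σ + 1, and_assoc.mp
    ⟨exists_irr (fun σ : Perm (Fin n) => fixChar (Pair n) σ - fixChar (TwoSet n) σ - fixChar (Fin n) σ + 1) (d := n * n - n - (n.choose 2 + n) + 1) (by omega) ?_ (fun H _ hH => ?_),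
      fun σ hσ h2 => ?_⟩⟩
  · rw [fixChar_pair, fixChar_twoSet 1 (fun a _ => rfl), fixChar_point, card_filter_one]
    push_cast [Nat.cast_sub hle]
    ring
  · have e : (fun x : H => fixChar (Pair n) (x : Perm (Fin n)) - fixChar (TwoSet n) (x : Perm (Fin n)) -
      fixChar (Fin n) (x : Perm (Fin n)) + 1) =
        permChar H (Pair n) - permChar H (TwoSet n) - permChar H (Fin n) + 1 := rfl
    rw [e]
    refine ⟨Char.IsGeneralizedCharacter.add (Char.IsGeneralizedCharacter.sub
      (Char.IsGeneralizedCharacter.sub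
        (Char.isGeneralizedCharacter_of_isCharacter (Char.isCharacter_fixedPoints _))
        (Char.isGeneralizedCharacter_of_isCharacter (Char.isCharacter_fixedPoints _)))
      (Char.isGeneralizedCharacter_of_isCharacter (Char.isCharacter_fixedPoints _)))
      (Char.isGeneralizedCharacter_of_isCharacter
        (Char.IsIrrCharacter.isCharacter Char.isIrrCharacter_one)), ?_⟩
    simp only [Char.classInner_add_left, Char.classInner_sub_left, Char.classInner_add_right,
      Char.classInner_sub_right]
    rw [inner_permChar_comm H (Pair n) (TwoSet n), inner_permChar_comm H (Pair n) (Fin n),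
      inner_permChar_comm H (TwoSet n) (Fin n), inner_one_permChar H (Pair n),
      inner_one_permChar H (TwoSet n), inner_one_permChar H (Fin n),
      inner_point_point H hH hn, inner_point_twoSet H hH hn, inner_point_pair H hH hn,
      inner_twoSet_twoSet H hH hn, inner_twoSet_pair H hH hn, inner_pair_pair H hH hn,
      inner_one_point H hH hn, inner_one_twoSet H hH hn, inner_one_pair H hH hn,
      show classInner (1 : H → ℂ) 1 = 1 from Char.classInner_irr_self Char.isIrrCharacter_one]
    norm_num
  · dsimp only; rw [fixChar_pair, fixChar_twoSet σ hσ, fixChar_point, h2]; norm_num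

/-- An even permutation of a given cycle type. -/
theorem exists_perm (m : Multiset ℕ) (hsum : m.sum ≤ n) (h2 : ∀ a ∈ m, 2 ≤ a)
    (hev : Even (m.sum + Multiset.card m)) :
    ∃ σ : alternatingGroup (Fin n),
      (Finset.univ.filter fun a => (σ : Perm (Fin n)) a = a).card = n - m.sum ∧
      orderOf σ = m.lcm ∧
      (2 ∉ m → ∀ a, (σ : Perm (Fin n)) ((σ : Perm (Fin n)) a) = a → (σ : Perm (Fin n)) a = a) := by
  obtain ⟨g, hg⟩ := (Perm.exists_with_cycleType_iff (α := Fin n)).mpr
    ⟨by rwa [Fintype.card_fin], h2⟩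
  have hmem : g ∈ alternatingGroup (Fin n) := by
    rw [Perm.mem_alternatingGroup, Perm.sign_of_cycleType, hg]
    exact Even.neg_one_pow hev
  refine ⟨⟨g, hmem⟩, ?_, ?_, fun hm a ha => ?_⟩
  · have h1 := Perm.card_fixedPoints g
    rw [hg, Fintype.card_fin] at h1
    rw [← h1, ← Nat.card_eq_fintype_card, ← Nat.card_eq_finsetCard]
    exact Nat.card_congr (Equiv.subtypeEquivRight fun a => by simp [Function.IsFixedPt])
  · rw [← Subgroup.orderOf_coe, ← hg, Perm.lcm_cycleType]
  · change g (g a) = a at ha
    show g a = a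
    by_contra h
    have hc := Perm.isCycle_cycleOf g h
    have h3 : g.cycleOf a a ≠ a := by rwa [Perm.cycleOf_apply_self]
    have h4 : g.cycleOf a ^ 2 = 1 := by
      rw [hc.pow_eq_one_iff' h3, Perm.cycleOf_pow_apply_self, pow_two]
      exact ha
    have h5 : (g.cycleOf a).support.card ∣ 2 := hc.orderOf ▸ orderOf_dvd_of_pow_eq_one h4
    have h6 := Perm.IsCycle.two_le_card_support hc
    apply hm
    rw [← hg, Perm.cycleType_def, show (2 : ℕ) = (Finset.card ∘ Perm.support) (g.cycleOf a) from
      (le_antisymm (Nat.le_of_dvd two_pos h5) h6).symm]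
    refine Multiset.mem_map_of_mem _ ?_
    rw [← Finset.mem_def]
    convert Perm.cycleOf_mem_cycleFactorsFinset_iff.mpr (Perm.mem_support.mpr h)

end Cfsg.Agent.AltPerm
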